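import Mathlib
import Cfsg.Agent.H640.FC.Rgd
import Cfsg.Agent.H640.FC.Red
import Cfsg.Agent.H640.FC.Num
import Cfsg.Agent.H640.FC.TwSix
import Cfsg.Agent.S1067
import Cfsg.Agent.S1071
import Cfsg.Agent.CpAut.RgdTwD4
import Cfsg.Agent.H28.FamFour

/-!
# Standard field automorphisms of prime order `p ≥ 5` of `³D₄(q)`

* `map_DD` : the fixed points on the root groups of the field automorphism `τ` (of any order) generate `³D₄` over the fixed
  field;
* `good_st` : `Good p s (st q τ)` if `τ` has order `p ≥ 5`, `p ≠ s`, `p ∣ |³D₄(q)|`.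
-/

set_option autoImplicit false
set_option linter.unusedSectionVars false
set_option maxHeartbeats 400000

namespace Cfsg.Agent.H640.FC.TwFour

open CoxeterSystem Cfsg.Agent.ChevalleyStructure.CoxeterGeom Cfsg.Agent.Tits.Roots Cfsg.Agent.Tits.Core
  Cfsg.Agent.Tits.Exchange Cfsg.Agent.Nodes.Reps Cfsg.Agent.Nodes.BNOf Cfsg.Agent.Nodes.StabComb
  Cfsg.Agent.Nodes.Bruhat Cfsg.Agent.Nodes.OppDec Cfsg.Agent.Nodes.RGDTwGen Cfsg.Agent.Nodes.RGDChev
  Cfsg.Agent.Nodes.RGDFold Cfsg.Agent.Nodes.RGDFoldSL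
open Cfsg.Agent.KFacts.RgdOpp Cfsg.Agent.KFacts.RgdAut Cfsg.Agent.KFacts.RgdDiag Cfsg.Agent.KFacts.RgdRigid
  Cfsg.Agent.KFacts.RgdField Cfsg.Agent.KFacts.RgdTau Cfsg.Agent.KFacts.RgdNodes
open Cfsg.Lie Cfsg.Agent.ChevalleyStructure Cfsg.Agent.ChevalleyStructure.Elts Cfsg.Agent.ChevStructure.FieldMap
open Cfsg.Agent.ChevalleyStructure.SL2Hom (up lo)
open Cfsg.Agent.ChevalleyStructure.SignedSymm
open Cfsg.Agent.KFacts.TwDFour.Out
open Cfsg.Agent.Nodes.RGDTwD4 Cfsg.Agent.Nodes.RGDTwNode.D4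
open Cfsg.Agent.ParSys.Fam.D4 (hf)
open Cfsg.Agent.CpAut.RgdFix Cfsg.Agent.CpAut.RgdCoh Cfsg.Agent.CpAut.RgdConj Cfsg.Agent.CpAut.RgdSub
  Cfsg.Agent.CpAut.RgdTwStd Cfsg.Agent.CpAut.RgdTwD4
open Cfsg.Agent.H640.FC.Rgd (HasFixRep hasFixRep_of_std DD_le')

universe u v

section Std

variable {K : Type u} [Field K] [Fintype K] {q : ℕ} {φ : K →+* K} (hφ : ∀ x, φ x = x ^ q)
  (hK : Fintype.card K = q ^ 3) (τ : K ≃+* K)

variable {W : Type*} [Group W] (cs : CoxeterSystem CoxeterMatrix.G₂ W)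

include hφ hK in
/-- **The fixed points on the root groups generate `³D₄` over the fixed field.** -/
theorem map_DD (p : ℕ) [Fact p.Prime] [CharP K p] :
    (DD cs isCartan (X φ q) (st q τ)).map (twistedD4 K q).subtype =
      (twistedD4 ↥(fixF τ) q).map (glm chevD4 (fixF τ)) := by
  have : Finite W := finiteW cs
  have R := Cfsg.Agent.Nodes.RGDTwD4.rgd cs hK hφ p
  have hs : ∀ r ∈ [14, 9], ∀ a : K, τ a = a → φ a = a →
      xG hD4 r a * 1 ∈ (twistedD4 ↥(fixF τ) q).map (glm chevD4 (fixF τ)) := by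
    intro r hr a ha ha'
    rw [mul_one]
    refine ⟨xG hD4 r (⟨a, ha⟩ : ↥(fixF τ)), single_mem (Subtype.ext ?_) hr, glm_xG hD4 _ r _⟩
    rw [SubmonoidClass.coe_pow]
    exact (hφ a).symm.trans ha'
  have hd : ∀ rs ∈ [(18, 13, 12), (5, 10, 11)], ∀ a : K, τ a = a →
      xG hD4 rs.1 a * (xG hD4 rs.2.1 (φ a) * (xG hD4 rs.2.2 (φ (φ a)) * 1)) ∈
        (twistedD4 ↥(fixF τ) q).map (glm chevD4 (fixF τ)) := by
    intro rs hr a ha
    rw [mul_one]
    refine ⟨_, triple_mem (⟨a, ha⟩ : ↥(fixF τ)) hr, ?_⟩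
    rw [map_mul, map_mul, glm_xG, glm_xG, glm_xG, SubmonoidClass.coe_pow, SubmonoidClass.coe_pow, hφ, hφ, pow_two,
      pow_mul]
  have hcases : ∀ i : Fin 2, i = 0 ∨ i = 1 := by decide
  apply le_antisymm
  · rw [Subgroup.map_le_iff_le_comap]
    refine DD_le' R (mem_X hφ hK) (PhiD_wS hφ hK) (st_up hφ hK τ) (st_n hφ τ) (coordD hφ hK)
      (ntau_st hφ hK τ cs p).diag (fun i a ha => ?_) (fun i a ha => ?_)
    · rw [Subgroup.mem_comap]
      show ((PhiD hφ hK i (up a) : ↥(twistedD4 K q)) : GL chevD4.Idx K) ∈ _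
      rw [coe_up]
      have ha1 : τ (a : K) = a := congrArg Subtype.val ha
      rcases hcases i with rfl | rfl
      · exact hs 14 (by simp) a ha1 (mem_Fx.1 a.2)
      · exact hd (18, 13, 12) (by simp) a ha1
    · rw [Subgroup.mem_comap]
      show ((PhiD hφ hK i (lo a) : ↥(twistedD4 K q)) : GL chevD4.Idx K) ∈ _
      rw [coe_lo]
      have ha1 : τ (a : K) = a := congrArg Subtype.val ha
      rcases hcases i with rfl | rfl
      · exact hs 9 (by simp) a ha1 (mem_Fx.1 a.2)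
      · exact hd (5, 10, 11) (by simp) a ha1
  · rw [Subgroup.map_le_iff_le_comap, tw_le_iff]
    have hup : ∀ (i : Fin 2) (a : KD φ i), τ (a : K) = a →
        yv (xG hD4) φ (rep i :: rest i) (a : K) ∈ (DD cs isCartan (X φ q) (st q τ)).map (twistedD4 K q).subtype := by
      intro i a ha
      rw [← coe_up hφ hK]
      exact ⟨_, up_mem_DD (mem_X hφ hK) (st_up hφ hK τ) (Subtype.ext ha), rfl⟩
    have hlo : ∀ (i : Fin 2) (a : KD φ i), τ (a : K) = a →
        yv (xG hD4) φ (negO i) (a : K) ∈ (DD cs isCartan (X φ q) (st q τ)).map (twistedD4 K q).subtype := by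
      intro i a ha
      rw [← coe_lo hφ hK]
      exact ⟨_, lo_mem_DD R (mem_X hφ hK) (PhiD_wS hφ hK) (st_up hφ hK τ) (st_n hφ τ) (Subtype.ext ha), rfl⟩
    have h1 : ∀ a : K, φ a = a → a ∈ Fx φ 1 := fun a ha => mem_Fx.2 ha
    have h2 : ∀ a : K, a ∈ Fx φ 3 := fun a => mem_Fx.2 (phi_three hφ hK a)
    refine ⟨fun t ht r hr => ?_, fun t rs hr => ?_⟩
    · rw [Subgroup.mem_comap, glm_xG, ← mul_one (xG hD4 r (t : K))]
      have ht' : φ (t : K) = t := by
        rw [hφ]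
        have := congrArg Subtype.val ht
        rwa [SubmonoidClass.coe_pow] at this
      simp only [List.mem_cons, List.not_mem_nil, or_false] at hr
      rcases hr with rfl | rfl
      · exact hup 0 ⟨t, h1 _ ht'⟩ t.2
      · exact hlo 0 ⟨t, h1 _ ht'⟩ t.2
    · rw [Subgroup.mem_comap]
      have e : (t : K) ^ (q ^ 2) = φ (φ (t : K)) := by rw [hφ, hφ, pow_two, pow_mul]
      rw [map_mul, map_mul, glm_xG, glm_xG, glm_xG, SubmonoidClass.coe_pow, SubmonoidClass.coe_pow, e, ← hφ,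
        ← mul_one (xG hD4 rs.2.2 (φ (φ (t : K))))]
      simp only [List.mem_cons, List.not_mem_nil, or_false] at hr
      rcases hr with rfl | rfl
      · exact hup 1 ⟨t, h2 _⟩ t.2
      · exact hlo 1 ⟨t, h2 _⟩ t.2

include hφ hK in
theorem DD_equiv (p : ℕ) [Fact p.Prime] [CharP K p] :
    Nonempty (↥(DD cs isCartan (X φ q) (st q τ)) ≃* ↥(twistedD4 ↥(fixF τ) q)) :=
  ⟨((DD cs isCartan (X φ q) (st q τ)).equivMapOfInjective (twistedD4 K q).subtype
    (twistedD4 K q).subtype_injective).trans ((MulEquiv.subgroupCongr (map_DD hφ hK τ cs p)).trans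
    ((twistedD4 ↥(fixF τ) q).equivMapOfInjective (glm chevD4 (fixF τ)) (glm_injective _)).symm)⟩

end Std

/-! ### the centralizer -/

section Cent

variable {K : Type u} {L : Type v} [Field K] [Finite K] [Field L] {q : ℕ} {φ : K →+* K} (hφ : ∀ x, φ x = x ^ q)
  (h3 : ∀ t, φ (φ (φ t)) = t) (f : K →+* L)

include hφ h3 in
/-- **The centralizer of `³D₄(q)` in `D₄(L)` is trivial** (both orientations). -/
theorem eq_one_of_comm {z : ↥(chevD4.group L)}
    (hz : ∀ g : ↥(twistedD4 K q), z * Cfsg.Agent.H28.FamFour.em q f g = Cfsg.Agent.H28.FamFour.em q f g * z) :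
    z = 1 := by
  have hle : twistedD4 K q ≤ D4Fixed.fix φ :=
    D4Fixed.twisted_induction hφ (fun t ht => D4Fixed.fix_14 φ ht) (fun t ht => D4Fixed.fix_9 φ ht)
      (fun t => D4Fixed.fix_X φ (h3 t)) (fun t => D4Fixed.fix_Y φ (h3 t))
  obtain ⟨g0, hg0, hgm, hgl⟩ := Cfsg.Agent.H28.FamFour.exists_long (k := L) foldData
    (Cfsg.Agent.Nodes.RGDTwD4.foldGrp hφ hle) f isCartan
  have hu0 : wordG hD4 [(14, (1 : K)), (18, 1), (13, 1), (12, 1)] ∈ twistedD4 K q := by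
    have h1 : xG hD4 14 (1 : K) ∈ twistedD4 K q := single_mem (one_pow q) (by simp)
    have h2 : xG hD4 18 (1 : K) * (xG hD4 13 ((1 : K) ^ q) * xG hD4 12 ((1 : K) ^ (q ^ 2))) ∈ twistedD4 K q :=
      triple_mem (1 : K) (rs := (18, 13, 12)) (by simp)
    rw [one_pow, one_pow] at h2
    have h3 := mul_mem h1 h2
    rw [wordG_cons, wordG_cons, wordG_cons, wordG_cons, wordG_nil, mul_one]
    exact h3
  have hc1 := congrArg Subtype.val (hz ⟨_, hu0⟩)
  have hc2 := congrArg Subtype.val (hz ⟨_, hg0⟩)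
  rw [Subgroup.coe_mul, Subgroup.coe_mul, Cfsg.Agent.H28.FamFour.coe_em] at hc1 hc2
  apply Subtype.ext
  have hw : Cfsg.Agent.GpExc.Field.glMap chevD4 f (wordG hD4 [(14, (1 : K)), (18, 1), (13, 1), (12, 1)]) =
      wordG hD4 [(14, (1 : L)), (18, 1), (13, 1), (12, 1)] := by
    rw [Cfsg.Agent.BpExc.Emb.glMap_wordG]
    simp only [List.map_cons, List.map_nil, map_one]
  have hmem : ∀ x ∈ [(14, (1 : L)), (18, 1), (13, 1), (12, 1)], chevD4.IsPosRoot x.1 := by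
    intro x hx
    refine Cfsg.Agent.H28.FamFour.pos4 _ ?_
    simp only [List.mem_cons, List.not_mem_nil, or_false] at hx
    rcases hx with rfl | rfl | rfl | rfl <;> simp
  refine Cfsg.Agent.H522.FamTw.Cent.eq_one_of_comm hp z.2
    (u := wordG hD4 [(14, (1 : L)), (18, 1), (13, 1), (12, 1)])
    (n := Cfsg.Agent.GpExc.Field.glMap chevD4 f g0) ?_ ?_ ?_ (Cfsg.Agent.BpExc.Emb.glMap_mono hD4 f hgm) hgl hc2
  · rw [wordG_cons, wordG_cons, wordG_cons, wordG_cons, wordG_nil, mul_one]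
    exact mul_mem (xG_mem_posUnipotent hD4 (Cfsg.Agent.H28.FamFour.pos4 14 (by simp)) _)
      (mul_mem (xG_mem_posUnipotent hD4 (Cfsg.Agent.H28.FamFour.pos4 18 (by simp)) _)
      (mul_mem (xG_mem_posUnipotent hD4 (Cfsg.Agent.H28.FamFour.pos4 13 (by simp)) _)
        (xG_mem_posUnipotent hD4 (Cfsg.Agent.H28.FamFour.pos4 12 (by simp)) _)))
  · intro i hi
    refine ⟨_, Cfsg.Agent.H522.FamTw.Cent.co_word hi _ hmem, ?_⟩
    have h1 := Cfsg.Agent.H28.FamFour.simple_cases i hi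
    simp only [List.mem_cons, List.not_mem_nil, or_false] at h1
    rcases h1 with h1 | h1 | h1 | h1 <;> simp [h1]
  · rw [← hw]
    exact hc1

end Cent

/-! ### numbers -/

open Cfsg.Agent.H640.FC.Num
open Cfsg.Agent.H640.FC.TwSix (not_dvd_sub_of not_dvd_add_of factorization_other)

/-- the prime to the characteristic part of the order -/
def Fo (q : ℕ) : ℕ := (q ^ 2 - 1) * ((q ^ 6 - 1) * ((q ^ 4) ^ 2 + q ^ 4 + 1))

theorem up_Fo {p q₀ : ℕ} (hp : p.Prime) (h5 : 5 ≤ p) (hq : 2 ≤ q₀) : Up p q₀ Fo :=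
  Up.mul hp (up_sub hp (by omega) hq (by norm_num)) (Up.mul hp (up_sub hp (by omega) hq (by norm_num))
    (up_phi hp h5 hq (by norm_num)))

theorem card_eq {K : Type*} [Field K] [Fintype K] {q : ℕ} (hq : IsPrimePow q) (hK : Fintype.card K = q ^ 3) :
    1 * Nat.card ↥(twistedD4 K q) = q ^ 12 * Fo q := by
  rw [Cfsg.Agent.S1067.result hq hK]
  unfold Fo
  ring

theorem not_dvd_Fo {s q : ℕ} (hs : s.Prime) (h : s ∣ q) (hq : 1 ≤ q) : ¬ s ∣ Fo q := by
  intro h1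
  unfold Fo at h1
  rcases hs.dvd_mul.1 h1 with h1 | h1
  · exact not_dvd_sub_of hs h hq (by norm_num) h1
  rcases hs.dvd_mul.1 h1 with h1 | h1
  · exact not_dvd_sub_of hs h hq (by norm_num) h1
  · have h2 : s ∣ q ^ 4 := h.trans (dvd_pow_self q (by norm_num))
    have h3 : s ∣ (q ^ 4) ^ 2 + q ^ 4 := dvd_add (h2.trans (dvd_pow_self _ (by norm_num))) h2
    exact hs.one_lt.ne' (Nat.dvd_one.1 ((Nat.dvd_add_right h3).1 h1))

/-! ### the standard field automorphisms -/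

theorem good_st {K : Type} [Field K] [Fintype K] (s : ℕ) [Fact s.Prime] [CharP K s] {q : ℕ} (hq : IsPrimePow q)
    (hK : Fintype.card K = q ^ 3) {p : ℕ} (hp : p.Prime) (h5 : 5 ≤ p) (hps : p ≠ s) {τ : K ≃+* K} (hτ : τ ^ p = 1)
    (hτ1 : τ ≠ 1) (hd : p ∣ Nat.card ↥(twistedD4 K q)) : Good p s (st q τ) := by
  have hs : s.Prime := Fact.out
  have hp2 : p ≠ 2 := by omega
  have hp3 : p ≠ 3 := by omega
  obtain ⟨φ, hφ⟩ := D4Fixed.exists_frob hq hK
  obtain ⟨cs, hcs⟩ : ∃ cs : CoxeterSystem CoxeterMatrix.G₂ CoxeterMatrix.G₂.Group, cs = cs :=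
    ⟨CoxeterMatrix.G₂.toCoxeterSystem, rfl⟩
  have hW : Finite CoxeterMatrix.G₂.Group := finiteW cs
  have R := Cfsg.Agent.Nodes.RGDTwD4.rgd cs hK hφ s
  have hG1 : RGD.Sup (X φ q) {x | IsRoot cs isCartan x} = ⊤ := G1_eq_top cs hK hφ
  have hGG := GG_eq_top (T := T K q) hG1
  have hD := (ntau_st hφ hK τ cs s).diag
  have hfx : HasFixRep R (st q τ) :=
    hasFixRep_of_std R (mem_X hφ hK) (PhiD_wS hφ hK) (st_up hφ hK τ) (st_n hφ τ)
  -- the fixed field
  have hk := card_fixF hp hτ hτ1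
  have := Fintype.ofFinite ↥(fixF τ)
  obtain ⟨q', hq', h1, h2⟩ := exists_root (n := 3) hp Nat.prime_three hp3 hq (k := Nat.card ↥(fixF τ))
    Finite.one_lt_card (by rw [← hk, Nat.card_eq_fintype_card, hK])
  have h4 : ∀ t : ↥(fixF τ), t ^ (q' ^ 3) = t := by
    intro t
    rw [← h1, Nat.card_eq_fintype_card]
    exact FiniteField.pow_card t
  have hK' : Fintype.card ↥(fixF τ) = q' ^ 3 := by rw [← Nat.card_eq_fintype_card, h1]
  have hcong : Nonempty (↥(twistedD4 ↥(fixF τ) q) ≃* ↥(twistedD4 ↥(fixF τ) q')) := by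
    have hmod : p % 3 = 1 ∨ p % 3 = 2 := by
      have h0 : p % 3 ≠ 0 := fun h => hp3 ((Nat.prime_dvd_prime_iff_eq Nat.prime_three hp).1
        (Nat.dvd_of_mod_eq_zero h)).symm
      omega
    have hdm := Nat.div_add_mod p 3
    rcases hmod with hm | hm
    · have h3 : ∀ t : ↥(fixF τ), t ^ q = t ^ q' := by
        intro t
        rw [h2, ← hdm, hm, pow_succ, pow_mul, pow_mul q' 3, pow_iter (h4 t)]
      rw [tw_congr h3]
      exact ⟨MulEquiv.refl _⟩
    · have h3 : ∀ t : ↥(fixF τ), t ^ q = t ^ (q' ^ 2) := by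
        intro t
        rw [h2, ← hdm, hm, pow_add, pow_mul, pow_mul q' 3, pow_iter (h4 t)]
      have h5 : ∀ t : ↥(fixF τ), (t ^ q) ^ q = t ^ q' := by
        intro t
        rw [h3, h3, ← pow_mul]
        have e : q' ^ 2 * q' ^ 2 = q' ^ 3 * q' := by ring
        rw [e, pow_mul, h4]
      have h6 : ∀ t : ↥(fixF τ), (t ^ q') ^ q' = t ^ q := by
        intro t
        rw [h3, ← pow_mul, ← pow_two]
      exact swap_equiv h5 h6
  obtain ⟨hsim, hna⟩ := Cfsg.Agent.S1071.result hq' hK'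
  have hch := charP_fixF s τ
  obtain ⟨e0⟩ := DD_equiv hφ hK τ cs s
  obtain ⟨e1⟩ := hcong
  have e : ↥(DD cs isCartan (X φ q) (st q τ)) ≃* ↥(twistedD4 ↥(fixF τ) q') := e0.trans e1
  -- orders
  have hcN : Nat.card ↥(DD cs isCartan (X φ q) (st q τ)) = Nat.card ↥(twistedD4 ↥(fixF τ) q') :=
    Nat.card_congr e.toEquiv
  have hoY := card_eq hq hK
  have hoN := card_eq hq' hK'
  rw [← hcN] at hoN
  have hq'2 : 2 ≤ q' := hq'.two_le
  have hU := up_Fo hp h5 hq'2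
  obtain ⟨c, hc⟩ : ∃ c, q' = s ^ c := by
    obtain ⟨r, c, hr, hc, rfl⟩ := (isPrimePow_nat_iff _).1 hq'
    refine ⟨c, ?_⟩
    have h6 : s ∣ Fintype.card ↥(fixF τ) := (FiniteField.cast_card_eq_zero ↥(fixF τ) |> (CharP.cast_eq_zero_iff _ s _).1)
    rw [hK', ← pow_mul] at h6
    rw [(Nat.prime_dvd_prime_iff_eq hs hr).1 (hs.dvd_of_dvd_pow h6)]
  have hc0 : c ≠ 0 := by
    rintro rfl
    rw [pow_zero] at hc
    omega
  have hsq' : s ∣ q' := by rw [hc]; exact dvd_pow_self s hc0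
  have hsq : s ∣ q := by rw [h2]; exact hsq'.trans (dvd_pow_self q' hp.ne_zero)
  have hpq' : ¬ p ∣ q' := by
    intro h6
    rw [hc] at h6
    exact hps ((Nat.prime_dvd_prime_iff_eq hp hs).1 (hp.dvd_of_dvd_pow h6))
  have hpq : ¬ p ∣ q := by
    intro h6
    rw [h2] at h6
    exact hpq' (hp.dvd_of_dvd_pow h6)
  have hp1 : ¬ p ∣ 1 := fun h6 => hp.one_lt.ne' (Nat.dvd_one.1 h6)
  have hs1 : ¬ s ∣ 1 := fun h6 => hs.one_lt.ne' (Nat.dvd_one.1 h6)
  have hpQ : ∀ n : ℕ, ¬ p ∣ n → ¬ p ∣ n ^ 12 := fun n hn h6 => hn (hp.dvd_of_dvd_pow h6)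
  have hFq : Fo q ≠ 0 := by rw [h2]; exact hU.ne
  have hfY := factorization_other hoY hp1 (hpQ q hpq) Nat.card_pos.ne' hFq
  have hfN := factorization_other hoN hp1 (hpQ q' hpq') Nat.card_pos.ne' hU.ne0
  have hdF : p ∣ Fo q' := by
    apply hU.dvd
    rw [← h2]
    have h6 : p ∣ q ^ 12 * Fo q := by rw [← hoY]; exact hd.mul_left _
    exact (hp.dvd_mul.1 h6).resolve_left (hpQ q hpq)
  have hdN : p ∣ Nat.card ↥(DD cs isCartan (X φ q) (st q τ)) := by
    have h6 : p ∣ 1 * Nat.card ↥(DD cs isCartan (X φ q) (st q τ)) := by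
      rw [hoN]; exact hdF.mul_left _
    exact (hp.dvd_mul.1 h6).resolve_left hp1
  refine ⟨DD cs isCartan (X φ q) (st q τ), fun y hy => DD_le_fix hy, fun y hy => ?_, ?_, ?_, hdN, ?_, ?_, ?_⟩
  · exact Cfsg.Agent.H640.FC.Rgd.fix_le_normalizer R hGG hD hfx hy
  · exact MulEquiv.isSimpleGroup e
  · intro hcm
    apply hna
    refine ⟨⟨fun a b => ?_⟩⟩
    apply e.symm.injective
    rw [map_mul, map_mul]
    exact hcm.is_comm.comm _ _
  · intro y hy hyc
    obtain ⟨φ', hφ'⟩ : ∃ φ' : ↥(fixF τ) →+* ↥(fixF τ), ∀ x, φ' x = x ^ q := by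
      have hmem : ∀ x : ↥(fixF τ), φ (x : K) ∈ fixF τ := fun x => by
        rw [mem_fixF, tau_phi hφ, mem_fixF.1 x.2]
      refine ⟨(φ.comp (fixF τ).subtype).codRestrict (fixF τ) hmem, fun x => Subtype.ext ?_⟩
      rw [SubmonoidClass.coe_pow]
      exact hφ _
    have h33 : ∀ t, φ' (φ' (φ' t)) = t := by
      intro t
      rw [hφ', hφ', hφ', ← pow_mul, ← pow_mul]
      have e3 : q * (q * q) = (q' ^ 3) ^ p := by rw [h2]; ring
      rw [e3, pow_iter (h4 t)]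
    have key := eq_one_of_comm hφ' h33 (L := K) (fixF τ).subtype
      (z := ⟨(y : GL chevD4.Idx K), Cfsg.Agent.H28.FamFour.twisted_le_group q y.2⟩) ?_
    · exact Subtype.ext (congrArg (fun z : ↥(chevD4.group K) => (z : GL chevD4.Idx K)) key)
    intro g
    apply Subtype.ext
    have h6 : glm chevD4 (fixF τ) (g : GL chevD4.Idx ↥(fixF τ)) ∈
        (DD cs isCartan (X φ q) (st q τ)).map (twistedD4 K q).subtype := by
      rw [map_DD hφ hK τ cs s]
      exact ⟨g, g.2, rfl⟩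
    obtain ⟨n, hn, hn'⟩ := h6
    have h7 := (Subgroup.mem_centralizer_iff.1 hyc) n hn
    have h8 := congrArg Subtype.val h7
    show (y : GL chevD4.Idx K) * glm chevD4 (fixF τ) (g : GL chevD4.Idx ↥(fixF τ)) =
      glm chevD4 (fixF τ) (g : GL chevD4.Idx ↥(fixF τ)) * (y : GL chevD4.Idx K)
    rw [← hn']
    exact h8.symm
  · rw [hfY, hfN, h2]
    exact hU.lt hdF
  · -- the characteristic part
    have hcC : Nat.card {y : ↥(twistedD4 K q) // st q τ y = y} = Nat.card ↥(fixedSubgroup (st q τ)) := rfl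
    have hidx := ((DD cs isCartan (X φ q) (st q τ)).subgroupOf (fixedSubgroup (st q τ))).card_mul_index
    have hcs' : Nat.card ↥((DD cs isCartan (X φ q) (st q τ)).subgroupOf (fixedSubgroup (st q τ))) =
        Nat.card ↥(DD cs isCartan (X φ q) (st q τ)) :=
      Nat.card_congr (Subgroup.subgroupOfEquivOfLe DD_le_fix).toEquiv
    have hni := Cfsg.Agent.H640.FC.Rgd.not_dvd_index R hGG hD hfx
    have hN12 := factorization_char (s := s) (a := c) (m := 12) hs (by rw [← hc]; exact hoN) hs1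
      (not_dvd_Fo hs hsq' (by omega)) Nat.card_pos.ne'
    have hY12 := factorization_char (s := s) (a := c * p) (m := 12) hs
      (by rw [pow_mul, ← hc, ← h2]; exact hoY) hs1 (not_dvd_Fo hs hsq hq.pos) Nat.card_pos.ne'
    rw [hcC, ← hidx, hcs', Nat.factorization_mul Nat.card_pos.ne' Subgroup.index_ne_zero_of_finite, Finsupp.add_apply,
      Nat.factorization_eq_zero_of_not_dvd hni, add_zero, hN12, hY12]
    ring

end Cfsg.Agent.H640.FC.TwFour
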